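import Cfsg.Agent.H58.PSLThree.Setup
import Cfsg.Agent.H96.Simple
import Cfsg.Agent.H93.Group
import Cfsg.Agent.H1.Orders

/-!
Reduction of the simplicity of the 2-fusion system of `PSL₃(F)` to properties of a Sylow 2-subgroup of `GL₂(F)`.
-/
set_option autoImplicit false

namespace Cfsg.Agent.H58.PSLThree

open Matrix MatrixGroups

variable {F : Type*} [Field F]

lemma two_ne_zero_of_odd_card [Fintype F] (hodd : Fintype.card F % 2 = 1) : (2 : F) ≠ 0 := by
  have h : ringChar F ≠ 2 := fun h => by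
    have := FiniteField.even_card_iff_char_two.1 h
    omega
  exact Ring.two_ne_zero h

lemma neg_one_ne_one (h2 : (2 : F) ≠ 0) : (-1 : GL (Fin 2) F) ≠ 1 := fun h => by
  have := congrArg (fun A : GL (Fin 2) F => (A : Matrix (Fin 2) (Fin 2) F) 0 0) h
  simp at this
  exact h2 (by linear_combination -this)

lemma eq_one_of_pow_two_pow_of_cube {M : Type*} [Monoid M] {x : M} {k : ℕ} (hk : x ^ 2 ^ k = 1)
    (h3 : x ^ 3 = 1) : x = 1 := by
  have h := pow_gcd_eq_one.2 ⟨hk, h3⟩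
  have hg : Nat.gcd (2 ^ k) 3 = 1 :=
    (Nat.Coprime.pow_left k (by norm_num : Nat.Coprime 2 3))
  rwa [hg, pow_one] at h

lemma e_injOn {P : Subgroup (GL (Fin 2) F)} (hP : IsPGroup 2 P) :
    Function.Injective (e.comp P.subtype) := by
  rw [injective_iff_map_eq_one]
  intro x hx
  obtain ⟨k, hk⟩ := hP x
  obtain ⟨h3, -⟩ := e_eq_one (A := (x : GL (Fin 2) F)) hx
  exact eq_one_of_pow_two_pow_of_cube hk (Subtype.ext (by simpa using h3))

lemma card_sl3_eq [Fintype F] :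
    Nat.card (SpecialLinearGroup (Fin 3) F) =
      Fintype.card F ^ 2 * (Fintype.card F ^ 2 + Fintype.card F + 1) * Nat.card (GL (Fin 2) F) := by
  set q := Fintype.card F with hq
  have h1 : 2 ≤ q := Fintype.one_lt_card
  have h := H1.sub_one_mul_card_SL (F := F) hq.symm 3 (by norm_num)
  rw [Matrix.card_GL_field, ← hq]
  simp only [Fin.prod_univ_three, Fin.prod_univ_two, Fin.val_zero, Fin.val_one, Fin.val_two,
    pow_zero, pow_one] at h ⊢
  apply Nat.eq_of_mul_eq_mul_left (show 0 < q - 1 by omega)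
  rw [h]
  have a1 : 1 ≤ q ^ 3 := Nat.one_le_pow _ _ (by omega)
  have a2 : q ≤ q ^ 3 := Nat.le_self_pow (by norm_num) q
  have a3 : q ^ 2 ≤ q ^ 3 := Nat.pow_le_pow_right (by omega) (by norm_num)
  have a4 : 1 ≤ q ^ 2 := Nat.one_le_pow _ _ (by omega)
  have a5 : q ≤ q ^ 2 := Nat.le_self_pow (by norm_num) q
  have a6 : 1 ≤ q := by omega
  zify [a1, a2, a3, a4, a5, a6]
  ring

/-- The image of a Sylow 2-subgroup of `GL₂` has odd index in `PSL₃`. -/
lemma not_dvd_index_map [Fintype F] (hodd : Fintype.card F % 2 = 1) {P : Subgroup (GL (Fin 2) F)}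
    (hP : IsPGroup 2 P) (hidx : Odd P.index) : ¬ 2 ∣ (P.map e).index := by
  have hc : Nat.card (P.map e) = Nat.card P := by
    have : P.map e = (e.comp P.subtype).range := by
      rw [MonoidHom.range_comp, Subgroup.range_subtype]
    rw [this]
    exact (Nat.card_congr (MonoidHom.ofInjective (e_injOn hP)).toEquiv).symm
  have hg := H1.gcd_mul_card_PSL (ι := Fin 3) (F := F)
  rw [card_sl3_eq, ← P.card_mul_index, ← (P.map e).card_mul_index, hc] at hg
  have hk : Nat.gcd (Fintype.card (Fin 3)) (Nat.card Fˣ) * (P.map e).index =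
      Fintype.card F ^ 2 * (Fintype.card F ^ 2 + Fintype.card F + 1) * P.index := by
    apply Nat.eq_of_mul_eq_mul_left (show 0 < Nat.card P from Nat.card_pos)
    linarith [hg]
  have ho : Odd (Fintype.card F) := Nat.odd_iff.2 hodd
  have hrhs : Odd (Fintype.card F ^ 2 * (Fintype.card F ^ 2 + Fintype.card F + 1) * P.index) :=
    Odd.mul (Odd.mul ho.pow (((ho.pow).add_odd ho).add_one)) hidx
  rw [← hk] at hrhs
  intro h
  exact Nat.not_even_iff_odd.2 (Nat.odd_mul.1 hrhs).2 (even_iff_two_dvd.2 h)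

/-- The criterion. -/
theorem isSimple_of_model [Fintype F] (hodd : Fintype.card F % 2 = 1) (P : Subgroup (GL (Fin 2) F))
    (hP : IsPGroup 2 P) (hidx : Odd P.index) (hneg : (-1 : GL (Fin 2) F) ∈ P)
    (hN : ∀ A : GL (Fin 2) F, (∀ p ∈ P, A * p * A⁻¹ ∈ P) →
      ∃ z ∈ Subgroup.center (GL (Fin 2) F), ∃ s ∈ P, A = z * s)
    (hZ : ∀ p ∈ P, p * p = 1 → (∀ r ∈ P, p * r = r * p) → p = 1 ∨ p = -1)
    (hC : ∀ T : Subgroup (GL (Fin 2) F), T ≤ P → (∀ p ∈ P, p * p = 1 → p ∈ T) →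
      (∀ x ∈ T, ∀ y ∈ P, (∃ g, g * e x * g⁻¹ = e y) → y ∈ T) → T = P)
    (S : Sylow 2 (ProjectiveSpecialLinearGroup (Fin 3) F)) :
    (groupFusionSystem (S : Subgroup (ProjectiveSpecialLinearGroup (Fin 3) F))).IsSimple 2 := by
  classical
  have : Fact (Nat.Prime 2) := ⟨Nat.prime_two⟩
  have h2 := two_ne_zero_of_odd_card hodd
  have hinj : ∀ x ∈ P, ∀ y ∈ P, e x = e y → x = y := fun x hx y hy h =>
    congrArg Subtype.val (e_injOn hP (a₁ := ⟨x, hx⟩) (a₂ := ⟨y, hy⟩) h)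
  let S₀ : Sylow 2 (ProjectiveSpecialLinearGroup (Fin 3) F) :=
    (hP.map e).toSylow (not_dvd_index_map hodd hP hidx)
  obtain ⟨c, hc⟩ := MulAction.exists_smul_eq (ProjectiveSpecialLinearGroup (Fin 3) F) S₀ S
  have hmem : ∀ x, x ∈ (S : Subgroup (ProjectiveSpecialLinearGroup (Fin 3) F)) ↔ ∃ p ∈ P, c * e p * c⁻¹ = x := by
    intro x
    rw [← hc, Sylow.coe_subgroup_smul, Subgroup.mem_smul_pointwise_iff_exists]
    constructor
    · rintro ⟨_, ⟨p, hp, rfl⟩, rfl⟩
      exact ⟨p, hp, rfl⟩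
    · rintro ⟨p, hp, rfl⟩
      exact ⟨e p, ⟨p, hp, rfl⟩, rfl⟩
  have hne1 : e (-1 : GL (Fin 2) F) ≠ 1 := fun h =>
    neg_one_ne_one h2 (hinj _ hneg 1 P.one_mem (by rw [h, map_one]))
  have hord : ∀ x : ProjectiveSpecialLinearGroup (Fin 3) F, x * x = 1 → x ≠ 1 → orderOf x = 2 :=
    fun x h h' => orderOf_eq_prime (by rwa [sq]) h'
  have hnorm : ∀ g, (∀ x ∈ (S : Subgroup (ProjectiveSpecialLinearGroup (Fin 3) F)), g * x * g⁻¹ ∈ (S : Subgroup (ProjectiveSpecialLinearGroup (Fin 3) F))) →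
      ∃ s ∈ (S : Subgroup (ProjectiveSpecialLinearGroup (Fin 3) F)), ∀ x ∈ (S : Subgroup (ProjectiveSpecialLinearGroup (Fin 3) F)), g * x * g⁻¹ = s * x * s⁻¹ := by
    intro g hg
    set h := c⁻¹ * g * c with hh
    have hh' : ∀ p ∈ P, ∃ p' ∈ P, h * e p * h⁻¹ = e p' := by
      intro p hp
      obtain ⟨p', hp', hp''⟩ := (hmem _).1 (hg _ ((hmem _).2 ⟨p, hp, rfl⟩))
      refine ⟨p', hp', ?_⟩
      have := congrArg (fun y => c⁻¹ * y * c) hp''
      simp only [hh] at this ⊢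
      group at this ⊢
      exact this.symm
    choose f hfP hf using hh'
    have hf' : Function.Injective (fun p : P => (⟨f p p.2, hfP p p.2⟩ : P)) := by
      intro a b hab
      have := (hf a a.2).trans ((congrArg (fun y : P => e (y : GL (Fin 2) F)) hab).trans (hf b b.2).symm)
      exact Subtype.ext (hinj _ a.2 _ b.2 (mul_left_cancel (mul_right_cancel this)))
    have hsurj := Finite.injective_iff_surjective.1 hf'
    have hp0 := hfP _ hneg
    have hp0sq : f _ hneg * f _ hneg = 1 := by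
      refine hinj _ (P.mul_mem hp0 hp0) _ P.one_mem ?_
      rw [map_mul, ← hf _ hneg, map_one]
      calc h * e (-1 : GL (Fin 2) F) * h⁻¹ * (h * e (-1 : GL (Fin 2) F) * h⁻¹)
          = h * e ((-1 : GL (Fin 2) F) * -1) * h⁻¹ := by rw [map_mul]; group
        _ = 1 := by rw [neg_one_mul, neg_neg, map_one, mul_one, mul_inv_cancel]
    have hp0c : ∀ r ∈ P, f _ hneg * r = r * f _ hneg := by
      intro r hr
      obtain ⟨⟨y, hy⟩, hyr⟩ := hsurj ⟨r, hr⟩
      have hyr' : f y hy = r := congrArg Subtype.val hyr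
      subst hyr'
      refine hinj _ (P.mul_mem hp0 (hfP _ _)) _ (P.mul_mem (hfP _ _) hp0) ?_
      rw [map_mul, map_mul, ← hf _ hneg, ← hf y hy]
      calc h * e (-1 : GL (Fin 2) F) * h⁻¹ * (h * e y * h⁻¹)
          = h * e ((-1 : GL (Fin 2) F) * y) * h⁻¹ := by rw [map_mul]; group
        _ = h * e (y * (-1 : GL (Fin 2) F)) * h⁻¹ := by rw [neg_one_mul, mul_neg_one]
        _ = _ := by rw [map_mul]; group
    have hcomm : h * e (-1 : GL (Fin 2) F) = e (-1 : GL (Fin 2) F) * h := by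
      rcases hZ _ hp0 hp0sq hp0c with h0 | h0
      · have := hf _ hneg
        rw [h0, map_one, conj_eq_one_iff] at this
        exact absurd this hne1
      · have := hf _ hneg
        rw [h0] at this
        exact mul_inv_eq_iff_eq_mul.1 this
    obtain ⟨A, hA⟩ := mem_range_of_commute h2 hcomm
    obtain ⟨m, hm⟩ := hP.exists_card_eq
    have hAN : ∀ p ∈ P, A * p * A⁻¹ ∈ P := by
      intro p hp
      obtain ⟨h3, hcen⟩ := e_eq_one (A := (f p hp)⁻¹ * (A * p * A⁻¹)) (by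
        rw [map_mul, map_inv, map_mul, map_mul, map_inv, hA, hf p hp, inv_mul_cancel])
      set k := (f p hp)⁻¹ * (A * p * A⁻¹) with hk
      have hpow : ∀ x ∈ P, x ^ 2 ^ m = 1 := fun x hx => by
        have := pow_card_eq_one' (x := (⟨x, hx⟩ : P))
        rw [hm] at this
        exact congrArg Subtype.val this
      have hk1 : k = 1 := by
        refine eq_one_of_pow_two_pow_of_cube (k := m) ?_ h3
        have heq : (f p hp * k) ^ 2 ^ m = 1 := by
          rw [hk, mul_inv_cancel_left, conj_pow, hpow p hp, mul_one, mul_inv_cancel]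
        rw [Commute.mul_pow (show Commute (f p hp) k from (hcen _).symm), hpow _ (hfP p hp),
          one_mul] at heq
        exact heq
      rw [hk, inv_mul_eq_one] at hk1
      rw [← hk1]
      exact hfP p hp
    obtain ⟨z, hz, s, hs, rfl⟩ := hN A hAN
    refine ⟨c * e s * c⁻¹, (hmem _).2 ⟨s, hs, rfl⟩, fun x hx => ?_⟩
    obtain ⟨p, hp, rfl⟩ := (hmem x).1 hx
    have key : z * s * p * (z * s)⁻¹ = s * p * s⁻¹ := by
      have := Subgroup.mem_center_iff.1 hz (s * p * s⁻¹)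
      calc z * s * p * (z * s)⁻¹ = z * (s * p * s⁻¹) * z⁻¹ := by group
        _ = s * p * s⁻¹ := by rw [← this, mul_inv_cancel_right]
    have hgc : g = c * h * c⁻¹ := by rw [hh]; group
    rw [hgc, ← hA]
    calc c * e (z * s) * c⁻¹ * (c * e p * c⁻¹) * (c * e (z * s) * c⁻¹)⁻¹
        = c * e (z * s * p * (z * s)⁻¹) * c⁻¹ := by simp only [map_mul, map_inv]; group
      _ = c * e (s * p * s⁻¹) * c⁻¹ := by rw [key]
      _ = _ := by simp only [map_mul, map_inv]; group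
  have hsat := H93.isSaturated_groupFusionSystem S
  refine H96.isSimple_of_inner_top _ 2 hsat ?_ ?_ ?_
  · intro h
    have : c * e (-1 : GL (Fin 2) F) * c⁻¹ ∈ (S : Subgroup (ProjectiveSpecialLinearGroup (Fin 3) F)) := (hmem _).2 ⟨_, hneg, rfl⟩
    rw [h, Subgroup.mem_bot, conj_eq_one_iff] at this
    exact hne1 this
  · refine le_antisymm (fun α hα => ?_) (H93.inn_le_autGroup _ le_rfl)
    rw [H93.autGroup_groupFusion S le_rfl] at hα
    obtain ⟨g, -, hg⟩ := H93.mem_autInducedBy.1 hα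
    obtain ⟨s, hs, hsx⟩ := hnorm g fun x hx => by
      rw [← hg ⟨x, hx⟩]; exact (α ⟨x, hx⟩).2
    exact H96.mem_inn_iff.2 ⟨s, hs, fun x => (hg x).trans (hsx _ x.2)⟩
  · intro T hT
    by_cases hT1 : T = ⊥
    · exact Or.inl hT1
    refine Or.inr (le_antisymm hT.1 ?_)
    have hcl : ∀ x ∈ T, ∀ g, g * x * g⁻¹ ∈ (S : Subgroup (ProjectiveSpecialLinearGroup (Fin 3) F)) → g * x * g⁻¹ ∈ T := by
      intro x hx g hgx
      have hzx : Subgroup.zpowers x ≤ T := Subgroup.zpowers_le.2 hx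
      refine hT.2 (Subgroup.zpowers x) hzx ((MulAut.conj g).toMonoidHom.comp (Subgroup.zpowers x).subtype)
        ⟨hzx.trans hT.1, ?_, g, fun y => rfl⟩ ⟨x, Subgroup.mem_zpowers x⟩
      rintro ⟨y, hy⟩
      obtain ⟨n, rfl⟩ := Subgroup.mem_zpowers_iff.1 hy
      show g * x ^ n * g⁻¹ ∈ (S : Subgroup (ProjectiveSpecialLinearGroup (Fin 3) F))
      rw [← conj_zpow]
      exact Subgroup.zpow_mem _ hgx n
    let T' := T.comap ((MulAut.conj c).toMonoidHom.comp e) ⊓ P
    have hT' : ∀ x, x ∈ T' ↔ c * e x * c⁻¹ ∈ T ∧ x ∈ P := fun x => Iff.rfl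
    obtain ⟨a, ha, hao⟩ : ∃ a ∈ T, orderOf a = 2 := by
      have : Nontrivial T := T.nontrivial_iff_ne_bot.2 hT1
      have hTp : IsPGroup 2 T := S.isPGroup'.to_le hT.1
      obtain ⟨n, hn, hcard⟩ := hTp.nontrivial_iff_card.1 this
      obtain ⟨a, ha⟩ := exists_prime_orderOf_dvd_card' 2 (G := T) (hcard ▸ dvd_pow_self 2 hn.ne')
      exact ⟨a, a.2, by rw [Subgroup.orderOf_coe, ha]⟩
    have hinv : ∀ p ∈ P, p * p = 1 → p ∈ T' := by
      intro p hp hpp
      refine (hT' p).2 ⟨?_, hp⟩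
      by_cases hp1 : p = 1
      · simp [hp1]
      have hep : orderOf (e p) = 2 := hord _ (by rw [← map_mul, hpp, map_one])
        fun h => hp1 (hinj _ hp 1 P.one_mem (by rw [h, map_one]))
      obtain ⟨g₁, hg₁⟩ := exists_conj_involution h2 hao
      obtain ⟨g₂, hg₂⟩ := exists_conj_involution h2 hep
      have hrw : (c * g₂ * g₁⁻¹) * a * (c * g₂ * g₁⁻¹)⁻¹ = c * e p * c⁻¹ := by
        rw [← hg₁, ← hg₂]; group
      rw [← hrw]
      exact hcl a ha _ (hrw ▸ (hmem _).2 ⟨p, hp, rfl⟩)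
    have htot : T' = P := hC T' inf_le_right hinv fun x hx y hy hxy => by
      obtain ⟨g, hg⟩ := hxy
      refine (hT' y).2 ⟨?_, hy⟩
      have hrw : (c * g * c⁻¹) * (c * e x * c⁻¹) * (c * g * c⁻¹)⁻¹ = c * e y * c⁻¹ := by
        rw [← hg]; group
      rw [← hrw]
      exact hcl _ ((hT' x).1 hx).1 _ (hrw ▸ (hmem _).2 ⟨y, hy, rfl⟩)
    intro x hx
    obtain ⟨p, hp, rfl⟩ := (hmem x).1 hx
    exact ((hT' p).1 (htot.symm ▸ hp)).1

end Cfsg.Agent.H58.PSLThree
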