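import Mathlib

/-!
Extending a subgroup by an involution normalizing it; small facts on abelian Sylow subgroups.
-/
set_option autoImplicit false

namespace Cfsg.Agent.H58.PSLThree

variable {M : Type*} [Group M]

/-- `D ∪ D w` for an involution `w` normalizing `D`. -/
def extendInvol (D : Subgroup M) (w : M) (hw : w * w = 1) (hD : ∀ x ∈ D, w * x * w ∈ D) :
    Subgroup M where
  carrier := {x | x ∈ D ∨ x * w ∈ D}
  one_mem' := Or.inl D.one_mem
  mul_mem' := by
    have hwi : w⁻¹ = w := inv_eq_of_mul_eq_one_right hw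
    rintro a b (ha | ha) (hb | hb)
    · exact Or.inl (D.mul_mem ha hb)
    · exact Or.inr (by rw [mul_assoc]; exact D.mul_mem ha hb)
    · refine Or.inr ?_
      have h := D.mul_mem ha (hD b hb)
      have e : a * w * (w * b * w) = a * b * w := by
        rw [mul_assoc w b w, ← mul_assoc (a * w), mul_assoc a, hw, mul_one, ← mul_assoc]
      rwa [e] at h
    · refine Or.inl ?_
      have h := D.mul_mem ha (hD _ hb)
      have e : a * w * (w * (b * w) * w) = a * b := by
        rw [show w * (b * w) * w = w * b * (w * w) by group, hw, mul_one, ← mul_assoc, mul_assoc a,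
          hw, mul_one]
      rwa [e] at h
  inv_mem' := by
    have hwi : w⁻¹ = w := inv_eq_of_mul_eq_one_right hw
    rintro a (ha | ha)
    · exact Or.inl (D.inv_mem ha)
    · refine Or.inr ?_
      have h := hD _ (D.inv_mem ha)
      have e : w * (a * w)⁻¹ * w = a⁻¹ * w := by
        rw [mul_inv_rev, hwi, ← mul_assoc w w, hw, one_mul]
      rwa [e] at h

variable {D : Subgroup M} {w : M} {hw : w * w = 1} {hD : ∀ x ∈ D, w * x * w ∈ D}

lemma mem_extendInvol {x : M} : x ∈ extendInvol D w hw hD ↔ x ∈ D ∨ x * w ∈ D := Iff.rfl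

lemma le_extendInvol : D ≤ extendInvol D w hw hD := fun _ h => Or.inl h

lemma invol_mem_extendInvol : w ∈ extendInvol D w hw hD := Or.inr (by rw [hw]; exact D.one_mem)

lemma card_extendInvol (hwD : w ∉ D) : Nat.card (extendInvol D w hw hD) = 2 * Nat.card D := by
  classical
  have hb : Function.Bijective (fun p : Bool × D =>
      (⟨if p.1 then (p.2 : M) * w else p.2, by
        obtain ⟨b, d⟩ := p
        cases b
        · exact Or.inl d.2
        · exact Or.inr (by simp [mul_assoc, hw])⟩ : extendInvol D w hw hD)) := by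
    constructor
    · rintro ⟨b, d⟩ ⟨b', d'⟩ h
      have h' := congrArg Subtype.val h
      cases b <;> cases b' <;> simp at h'
      · rw [h']
      · exfalso; apply hwD
        have : w = (d' : M)⁻¹ * d := by rw [h', inv_mul_cancel_left]
        rw [this]; exact D.mul_mem (D.inv_mem d'.2) d.2
      · exfalso; apply hwD
        have : w = (d : M)⁻¹ * d' := by rw [← h', inv_mul_cancel_left]
        rw [this]; exact D.mul_mem (D.inv_mem d.2) d'.2
      · rw [h']
    · rintro ⟨x, hx | hx⟩
      · exact ⟨(false, ⟨x, hx⟩), rfl⟩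
      · exact ⟨(true, ⟨x * w, hx⟩), Subtype.ext (by simp [mul_assoc, hw])⟩
  rw [← Nat.card_eq_of_bijective _ hb, Nat.card_prod, Nat.card_eq_fintype_card, Fintype.card_bool]

/-- In a commutative group every 2-element lies in every Sylow 2-subgroup. -/
lemma mem_sylow_of_pow {C : Type*} [Group C] [Finite C] (hcomm : ∀ a b : C, a * b = b * a)
    (P : Sylow 2 C) {x : C} {k : ℕ} (hx : x ^ 2 ^ k = 1) : x ∈ (P : Subgroup C) := by
  have : (P : Subgroup C).Normal := ⟨fun a ha g => by rwa [hcomm g, mul_inv_cancel_right]⟩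
  have hz : IsPGroup 2 (Subgroup.zpowers x) := by
    rintro ⟨y, hy⟩
    obtain ⟨n, rfl⟩ := Subgroup.mem_zpowers_iff.1 hy
    exact ⟨k, Subtype.ext (by
      rw [Subgroup.coe_pow, Subgroup.coe_one, ← zpow_natCast, zpow_comm, zpow_natCast, hx, one_zpow])⟩
  have h := P.is_maximal' (hz.to_sup_of_normal_right P.isPGroup') le_sup_right
  rw [← h]
  exact Subgroup.mem_sup_left (Subgroup.mem_zpowers x)

end Cfsg.Agent.H58.PSLThree
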